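import Groth.Agent.EtCoh.K593.Pack
import Groth.Agent.EtCoh.K961.Key
import Groth.Agent.EtCoh.K103.TorEt
import Groth.Agent.Proet.EtaleLift

/-!
# Symbols which are étale-locally divisible by `p^n` have symbol trace killed by `p^(N-n)` (NODE HKER)
-/

set_option autoImplicit false

universe u

open CategoryTheory CategoryTheory.Limits AlgebraicGeometry Opposite
open KaehlerDifferential K611.Gam K611.Gam2 K611.Frame K611.Top K611.Sh K611.Seq K611.Seq2 K720.Sym K720.Tw K720.Nu K720.Lev1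
open K56.T4 K961 K961.Inv

noncomputable section

namespace K759.HKer

open TensorProduct in
/-- Étale maps lift along surjections. -/
theorem exists_lift {E B C : Type u} [CommRing E] [CommRing B] [CommRing C] (q : E →+* B)
    (hq : Function.Surjective q) (h : B →+* C) (hh : h.Etale) :
    ∃ (E' : Type u) (_ : CommRing E') (f : E →+* E') (q' : E' →+* C), f.Etale ∧ Function.Surjective q' ∧
      RingHom.ker q' = (RingHom.ker q).map f ∧ ∀ a, q' (f a) = h (q a) := by
  let I : Ideal E := RingHom.ker q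
  let e : E ⧸ I ≃+* B := RingHom.quotientKerEquivOfSurjective hq
  let h₁ : E ⧸ I →+* C := h.comp (e : E ⧸ I →+* B)
  have hh₁ : h₁.Etale := RingHom.Etale.stableUnderComposition _ _ (RingHom.Etale.of_bijective e.bijective) hh
  algebraize [h₁]
  have hC : Algebra.Etale (E ⧸ I) C := hh₁
  obtain ⟨E', _, _, hE', ⟨ε⟩⟩ := Groth.Agent.Proet.EtaleLift.exists_etale_lift E (E ⧸ I) C
    Ideal.Quotient.mk_surjective
  let ε₂ : (E' ⧸ I.map (algebraMap E E')) ≃ₐ[E ⧸ I] (E ⧸ I) ⊗[E] E' :=
    Algebra.TensorProduct.quotIdealMapEquivQuotTensor E' I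
  let ε₃ : (E' ⧸ I.map (algebraMap E E')) ≃ₐ[E ⧸ I] C := ε₂.trans ε
  refine ⟨E', inferInstance, algebraMap E E', (ε₃ : (E' ⧸ I.map (algebraMap E E')) →+* C).comp
    (Ideal.Quotient.mk _), RingHom.etale_algebraMap.mpr hE', ε₃.surjective.comp Ideal.Quotient.mk_surjective, ?_, ?_⟩
  · ext x
    rw [RingHom.mem_ker, RingHom.comp_apply]
    change ε₃ _ = 0 ↔ _
    rw [map_eq_zero_iff _ ε₃.injective, Ideal.Quotient.eq_zero_iff_mem]
  · intro a
    have h1 : (ε₃ : (E' ⧸ I.map (algebraMap E E')) →+* C) (algebraMap (E ⧸ I) _ (Ideal.Quotient.mk I a)) =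
      algebraMap (E ⧸ I) C (Ideal.Quotient.mk I a) := ε₃.commutes _
    exact h1

/-- Base change of an étale algebra to a localization, with points. -/
theorem exists_loc {B B' C : Type u} [CommRing B] [CommRing B'] [CommRing C] [Algebra B B'] (g : B)
    [IsLocalization.Away g B'] (f : B →+* C) (hf : f.Etale) (q : PrimeSpectrum B') (r : PrimeSpectrum C)
    (hr : PrimeSpectrum.comap f r = PrimeSpectrum.comap (algebraMap B B') q) :
    ∃ (C' : Type u) (_ : CommRing C') (i : C →+* C') (f' : B' →+* C') (r' : PrimeSpectrum C'), f'.Etale ∧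
      PrimeSpectrum.comap f' r' = q ∧ ∀ b, f' (algebraMap B B' b) = i (f b) := by
  algebraize [f]
  have hC : Algebra.Etale B C := hf
  let C' := Localization.Away (f g)
  have hu : IsUnit (algebraMap C C' (f g)) := IsLocalization.Away.algebraMap_isUnit (f g)
  let f' : B' →+* C' := IsLocalization.Away.lift (S := B') g (g := (algebraMap C C').comp f) hu
  have hf' : ∀ b, f' (algebraMap B B' b) = algebraMap C C' (f b) := fun b => IsLocalization.Away.lift_eq g hu b
  have hgr : f g ∉ r.asIdeal := by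
    intro hg
    have h1 : g ∈ (PrimeSpectrum.comap (algebraMap B B') q).asIdeal := by
      rw [← hr]
      exact hg
    exact q.isPrime.ne_top (Ideal.eq_top_of_isUnit_mem _ h1 (IsLocalization.Away.algebraMap_isUnit g))
  obtain ⟨r', hr'⟩ : r ∈ Set.range (PrimeSpectrum.comap (algebraMap C C')) := by
    rw [PrimeSpectrum.localization_away_comap_range C' (f g)]
    exact hgr
  refine ⟨C', inferInstance, algebraMap C C', f', r', ?_, ?_, hf'⟩
  · algebraize [f']
    have t1 : IsScalarTower B C C' := inferInstance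
    have t2 : IsScalarTower B B' C' := IsScalarTower.of_algebraMap_eq fun b => by
      rw [IsScalarTower.algebraMap_apply B C C']
      exact (hf' b).symm
    have h1 : Algebra.Etale C C' := Algebra.Etale.of_isLocalizationAway (f g)
    have h2 : Algebra.Etale B C' := Algebra.Etale.comp B C C'
    have h3 : Algebra.Etale B B' := Algebra.Etale.of_isLocalizationAway g
    have h4 : Algebra.Etale B' C' := Algebra.Etale.of_restrictScalars B B' C'
    exact h4
  · have h5 : PrimeSpectrum.comap (algebraMap B B') (PrimeSpectrum.comap f' r') =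
        PrimeSpectrum.comap (algebraMap B B') q := by
      rw [← hr, ← hr', ← PrimeSpectrum.comap_comp_apply, ← PrimeSpectrum.comap_comp_apply]
      congr 1
      exact RingHom.ext hf'
    exact PrimeSpectrum.localization_comap_injective B' (Submonoid.powers g) h5

open TensorProduct Groth.Agent.Etbase.FFExact in
/-- An element killed by an étale base change around `q` has annihilator not contained in `q`. -/
theorem not_le_of_bc {E C : Type u} [CommRing E] [CommRing C] (f : E →+* C) (hf : f.Etale) {M M' : Type u}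
    [AddCommGroup M] [AddCommGroup M'] [Module E M] [Module C M'] (ψ : M →+ M') (h : IsBC f ψ) (ω : M)
    (h0 : ψ ω = 0) (r : PrimeSpectrum C) :
    ¬ LinearMap.ker (LinearMap.toSpanSingleton E M ω) ≤ (PrimeSpectrum.comap f r).asIdeal := by
  intro hle
  obtain ⟨h1, h2⟩ := h
  algebraize [f]
  have hC : Algebra.Etale E C := hf
  let _ : Module E M' := Module.compHom M' f
  have _ : IsScalarTower E C M' := ⟨fun a b m => by
    change (f a * b) • m = f a • b • m
    rw [mul_smul]⟩
  let I : Ideal E := LinearMap.ker (LinearMap.toSpanSingleton E M ω)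
  let i : (E ⧸ I) →ₗ[E] M := Submodule.liftQ I (LinearMap.toSpanSingleton E M ω) le_rfl
  have hi : Function.Injective i := by
    rw [← LinearMap.ker_eq_bot]
    exact Submodule.ker_liftQ_eq_bot _ _ _ le_rfl
  have hflat : Module.Flat E C := inferInstance
  have hi' : Function.Injective (i.lTensor C) := Module.Flat.lTensor_preserves_injective_linearMap i hi
  have h3 : (1 : C) ⊗ₜ[E] (Ideal.Quotient.mk I 1) = 0 := by
    apply hi'
    rw [map_zero, LinearMap.lTensor_tmul]
    have h4 : i (Ideal.Quotient.mk I 1) = ω := by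
      change (1 : E) • ω = ω
      rw [one_smul]
    rw [h4]
    apply h2.equiv.injective
    rw [map_zero, h2.equiv_tmul, one_smul]
    exact h0
  let g : (E ⧸ I) →ₐ[E] (C ⧸ r.asIdeal) := Ideal.Quotient.liftₐ I (Algebra.ofId E (C ⧸ r.asIdeal)) (by
    intro a ha
    change Ideal.Quotient.mk r.asIdeal (f a) = 0
    rw [Ideal.Quotient.eq_zero_iff_mem]
    exact hle ha)
  let k : C ⊗[E] (E ⧸ I) →ₐ[E] (C ⧸ r.asIdeal) :=
    Algebra.TensorProduct.lift (IsScalarTower.toAlgHom E C (C ⧸ r.asIdeal)) g (fun _ _ => Commute.all _ _)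
  have h5 : k 1 = 0 := by
    have : (1 : C ⊗[E] (E ⧸ I)) = (1 : C) ⊗ₜ[E] (Ideal.Quotient.mk I 1) := rfl
    rw [this, h3, map_zero]
  rw [map_one] at h5
  have h6 : (1 : C) ∈ r.asIdeal := by
    rw [← Ideal.Quotient.eq_zero_iff_mem]
    exact h5
  exact r.isPrime.ne_top ((Ideal.eq_top_iff_one _).2 h6)

/-- Two-forms vanish étale-locally iff they vanish. -/
theorem om2_eq_zero {E : Type u} [CommRing E] (ω : Om2 E)
    (h : ∀ q : PrimeSpectrum E, ∃ (C : Type u) (_ : CommRing C) (f : E →+* C) (_ : f.Etale) (r : PrimeSpectrum C),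
      PrimeSpectrum.comap f r = q ∧ omap2 f ω = 0) : ω = 0 := by
  by_contra hne
  have hI : LinearMap.ker (LinearMap.toSpanSingleton E (Om2 E) ω) ≠ ⊤ := by
    intro hI
    apply hne
    have h1 : (1 : E) ∈ LinearMap.ker (LinearMap.toSpanSingleton E (Om2 E) ω) := by
      rw [hI]
      trivial
    have h2 : (1 : E) • ω = 0 := h1
    rwa [one_smul] at h2
  obtain ⟨m, hm, hle⟩ := Ideal.exists_le_maximal (LinearMap.ker (LinearMap.toSpanSingleton E (Om2 E) ω)) hI
  obtain ⟨C, _, f, hf, r, hr, h0⟩ := h ⟨m, hm.isPrime⟩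
  refine not_le_of_bc f hf (omap2 f) (isBC_omap2 f hf) ω h0 r ?_
  rw [hr]
  exact hle

section ring

variable {p N : ℕ} [hp : Fact p.Prime]

theorem zero_of_tmap {E C : Type u} [CommRing E] [CommRing C] (T : Tor p N E) (q : E →+* C)
    (hq : Function.Surjective q) (kq : RingHom.ker q = Ideal.span {(p : E)}) (n : ℕ) (hn : n ≤ N) (y : Tn E)
    (w : Tn C) (hy : tmap q y = p ^ n • w) : p ^ (N - n) • it T N (sy y) = 0 := by
  have hl : IsLift q := isLift_of_nilpotent p N T.pn q hq kq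
  obtain ⟨y', hy'⟩ := hl.tmap_surjective w
  have h1 : cl2 (sy y) = cl2 (sy (p ^ n • y')) := by
    rw [← hl.syL_tmap, ← hl.syL_tmap, hy, map_nsmul (tmap q), hy']
  rw [it_cl2 T le_rfl h1, map_nsmul sy, map_nsmul (it T N), smul_smul, ← pow_add, Nat.sub_add_cancel hn]
  exact nsmul_pn T.pn _

theorem hker_ring {A B : Type u} [CommRing A] [CommRing B] {T : Tor p N A} [Algebra A B] (c : Ch T B) (n : ℕ)
    (hn : n ≤ N) (z : Tn B) (hz : ∀ q : PrimeSpectrum B, ∃ (C : Type u) (_ : CommRing C) (f : B →+* C) (_ : f.Etale)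
      (r : PrimeSpectrum C), PrimeSpectrum.comap f r = q ∧ ∃ w : Tn C, tmap f z = p ^ n • w) :
    p ^ (N - n) • c.val z = 0 := by
  obtain ⟨y, hy⟩ := c.exists_lift z
  rw [c.val_eq z y hy, ← map_nsmul]
  suffices h : p ^ (N - n) • it c.TE N (sy y) = 0 by rw [h, map_zero]
  refine om2_eq_zero _ fun q₀ => ?_
  obtain ⟨q₁, hq₁⟩ : q₀ ∈ Set.range (PrimeSpectrum.comap c.q) := by
    rw [range_comap_of_surjective _ c.q c.hq, PrimeSpectrum.mem_zeroLocus, c.kq]
    rw [SetLike.coe_subset_coe, Ideal.span_singleton_le_iff_mem]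
    apply q₀.isPrime.mem_of_pow_mem N
    rw [c.TE.pn]
    exact zero_mem _
  obtain ⟨C, _, f, hf, r, hr, w, hw⟩ := hz (PrimeSpectrum.comap (algebraMap B c.B') q₁)
  obtain ⟨C', _, i, f', r', hf', hr', hif⟩ := exists_loc (algebraMap A B c.g) f hf q₁ r hr
  obtain ⟨E', _, φ, q', hφ, hq', kq', hc⟩ := exists_lift c.q c.hq f' hf'
  refine ⟨E', inferInstance, φ, hφ, PrimeSpectrum.comap q' r', ?_, ?_⟩
  · rw [← hq₁, ← hr', ← PrimeSpectrum.comap_comp_apply, ← PrimeSpectrum.comap_comp_apply]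
    congr 1
    exact RingHom.ext hc
  · obtain ⟨T', hT'⟩ := K103.Tor.exists_tor_etale c.TE φ hφ
    rw [map_nsmul, it_nat c.TE T' φ hT', omap2_sy]
    refine zero_of_tmap T' q' hq' ?_ n hn _ (tmap i w) ?_
    · rw [kq', c.kq, Ideal.map_span, Set.image_singleton, map_natCast]
    · rw [← map_nsmul, ← hw]
      have e1 : q'.comp φ = f'.comp c.q := RingHom.ext hc
      have e2 : f'.comp (algebraMap B c.B') = i.comp f := RingHom.ext hif
      rw [← AddMonoidHom.comp_apply, ← tmap_comp, e1, tmap_comp, AddMonoidHom.comp_apply, hy,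
        ← AddMonoidHom.comp_apply, ← tmap_comp, e2, tmap_comp, AddMonoidHom.comp_apply]

end ring

/-- **NODE HKER.** -/
theorem hker {p N : ℕ} [Fact p.Prime] {X : Scheme.{u}} (h : (p : Γ(X, ⊤)) = 0) (U : X.Etale) (hU : IsAffine U.left)
    {A : Type u} [CommRing A] {T : Tor p N A} [Algebra A Γ(U.left, ⊤)] (c : Ch T Γ(U.left, ⊤)) (n : ℕ) (hn : n ≤ N)
    (z : Tn Γ(U.left, ⊤)) (hz : un (QnF (p ^ n)) U (cm (A := TnF) z) = 0) : p ^ (N - n) • c.val z = 0 := by
  refine hker_ring c n hn z fun q => ?_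
  obtain ⟨V, g, v, hv, h1⟩ := exists_eq_of_un_eq (QnF (p ^ n)) U (cm (A := TnF) z) 0 (by rw [hz, map_zero])
    (U.left.isoSpec.inv q)
  obtain ⟨V₂, g₂, v₂, hv₂, hV₂, -⟩ := hasCharts_true X V v
  have h2 : res (QnF (p ^ n)) (g₂ ≫ g) (cm (A := TnF) z) = 0 := by
    rw [res_comp, h1, map_zero, map_zero]
  obtain ⟨w, hw⟩ := cm_eq_zero.1 h2
  refine ⟨Γ(V₂.left, ⊤), inferInstance, (g₂ ≫ g).left.appTop.hom, K611.Zar.etale_appTop _ hV₂ hU,
    V₂.left.isoSpec.hom v₂, ?_, w, hw.symm⟩
  have h3 : (g₂ ≫ g).left v₂ = U.left.isoSpec.inv q := by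
    change (g₂.left ≫ g.left) v₂ = _
    rw [Scheme.Hom.comp_apply, hv₂, hv]
  have h4 : V₂.left.isoSpec.hom ≫ Spec.map (g₂ ≫ g).left.appTop = (g₂ ≫ g).left ≫ U.left.isoSpec.hom :=
    Scheme.isoSpec_hom_naturality _
  have h5 : (Spec.map (g₂ ≫ g).left.appTop) (V₂.left.isoSpec.hom v₂) = q := by
    rw [← Scheme.Hom.comp_apply, h4, Scheme.Hom.comp_apply, h3]
    exact congrArg (fun e : Spec Γ(U.left, ⊤) ⟶ Spec Γ(U.left, ⊤) => e q) U.left.isoSpec.inv_hom_id
  exact h5

end K759.HKer
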